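import Mathlib.AlgebraicGeometry.Morphisms.Smooth
import Mathlib.AlgebraicGeometry.Fiber

set_option autoImplicit false
universe u

open CategoryTheory CategoryTheory.Limits AlgebraicGeometry IsLocalRing

namespace Groth.Agent.Sga7.H752.IsolClosed

/-- An isolated non-smooth point of the closed fibre is closed in its fibre. -/
theorem isClosed_asFiber {V : Type u} [CommRing V] [IsLocalRing V] {X : Scheme.{u}} (f : X ⟶ Spec (CommRingCat.of V))
    [LocallyOfFinitePresentation f] (x : X) (hx : f.base x = closedPoint V)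
    (U : X.Opens) (hxU : x ∈ U)
    (hisol : ∀ y : X, y ∈ U → f.base y = closedPoint V → y ≠ x → y ∈ f.smoothLocus)
    (hns : x ∉ f.smoothLocus) : IsClosed ({f.asFiber x} : Set (f.fiber (f x))) := by
  refine isClosed_singleton_of_isLocallyClosed_singleton ?_
  have h1 : ({f.asFiber x} : Set (f.fiber (f x))) =
      (f.fiberι (f x)) ⁻¹' (U : Set X) ∩ (f.fiberι (f x)) ⁻¹' ((f.smoothLocus : Set X)ᶜ) := by
    ext z
    rw [Set.mem_singleton_iff, Set.mem_inter_iff, Set.mem_preimage, Set.mem_preimage, Set.mem_compl_iff]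
    constructor
    · rintro rfl
      rw [Scheme.Hom.fiberι_asFiber]
      exact ⟨hxU, hns⟩
    · rintro ⟨hzU, hzn⟩
      by_contra hne
      have h2 : f (f.fiberι (f x) z) = f x := by
        have h3 : f.fiberι (f x) z ∈ Set.range (f.fiberι (f x)) := ⟨z, rfl⟩
        rw [Scheme.Hom.range_fiberι] at h3
        exact h3
      refine hzn (hisol _ hzU (h2.trans hx) fun he => hne ?_)
      apply (f.fiberι (f x)).isEmbedding.injective
      rw [he, Scheme.Hom.fiberι_asFiber]
  rw [h1]
  exact ((U.isOpen.preimage (f.fiberι (f x)).continuous).isLocallyClosed).inter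
    ((f.smoothLocus.isOpen.isClosed_compl.preimage (f.fiberι (f x)).continuous).isLocallyClosed)

end Groth.Agent.Sga7.H752.IsolClosed
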