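import Groth.Agent.Sga7.H752.BaseExt
import Groth.Agent.Flat2G.StrictHens
import Groth.Agent.EtpbcB.StrictHensTransport
import Groth.Agent.Etrest.IntHens
import Groth.Agent.Pi1C.StrictHensWE

/-!
# Strict henselizations and totally ramified base extension

If `Osh` is a strict henselization of the local `V`-algebra `O` (flat over `V` by a local homomorphism) then
`Osh ⊗[V] V'` is a strict henselization of `O ⊗[V] V'` for `V → V'` totally ramified.
-/

set_option autoImplicit false
universe u

open IsLocalRing TensorProduct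

namespace Groth.Agent.Sga7.H752.BaseExtHens

open BaseExt

theorem weaklyEtale_of_ringEquiv {A B C : Type u} [CommRing A] [CommRing B] [CommRing C] [Algebra A B] [Algebra A C]
    [Algebra.WeaklyEtale A B] (e : B ≃+* C) (he : ∀ a, e (algebraMap A B a) = algebraMap A C a) :
    Algebra.WeaklyEtale A C := by
  let : Algebra B C := (e : B →+* C).toAlgebra
  have : IsScalarTower A B C := IsScalarTower.of_algebraMap_eq fun a => (he a).symm
  let e' : B ≃ₐ[B] C := { e with commutes' := fun b => rfl }
  have : Algebra.Etale B C := Algebra.Etale.of_equiv e'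
  exact Algebra.WeaklyEtale.trans A B C

section

variable (V V' : Type u) [CommRing V] [IsDomain V] [IsDiscreteValuationRing V] [CommRing V'] [IsDomain V']
  [IsDiscreteValuationRing V'] [Algebra V V']
  (O Osh : Type u) [CommRing O] [Algebra V O] [CommRing Osh]
  [Algebra O Osh] [Algebra V Osh] [IsScalarTower V O Osh]

/-- The `O ⊗ V'`-algebra structure of `Osh ⊗ V'`. -/
noncomputable abbrev tAlg : Algebra (O ⊗[V] V') (Osh ⊗[V] V') :=
  (Algebra.TensorProduct.map (IsScalarTower.toAlgHom V O Osh) (AlgHom.id V V')).toRingHom.toAlgebra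

attribute [local instance] tAlg

omit [IsDomain V] [IsDiscreteValuationRing V] [IsDomain V'] [IsDiscreteValuationRing V'] in
theorem weaklyEtale_tensor [Algebra.WeaklyEtale O Osh] :
    Algebra.WeaklyEtale (O ⊗[V] V') (Osh ⊗[V] V') := by
  let e : (O ⊗[V] V') ⊗[O] Osh ≃ₐ[O] Osh ⊗[V] V' :=
    (Algebra.TensorProduct.comm O (O ⊗[V] V') Osh).trans
      (Algebra.TensorProduct.cancelBaseChange V O O Osh V')
  refine weaklyEtale_of_ringEquiv e.toRingEquiv fun a => ?_
  change Algebra.TensorProduct.cancelBaseChange V O O Osh V'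
    (Algebra.TensorProduct.comm O (O ⊗[V] V') Osh (a ⊗ₜ 1)) =
    Algebra.TensorProduct.map (IsScalarTower.toAlgHom V O Osh) (AlgHom.id V V') a
  rw [Algebra.TensorProduct.comm_tmul]
  induction a with
  | zero => simp
  | tmul x y =>
    rw [Algebra.TensorProduct.cancelBaseChange_tmul, Algebra.TensorProduct.map_tmul]
    simp [Algebra.smul_def]
  | add x y hx hy => rw [TensorProduct.tmul_add, map_add, hx, hy, map_add]

variable [IsLocalRing O] [IsLocalRing Osh] [IsLocalHom (algebraMap O Osh)]
  [IsLocalHom (algebraMap V O)]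

theorem isLocalHom_tensor (h : TotRam V V') [IsLocalRing (O ⊗[V] V')] [IsLocalRing (Osh ⊗[V] V')] :
    IsLocalHom (algebraMap (O ⊗[V] V') (Osh ⊗[V] V')) := by
  have := h.isIntegral
  have hVOsh : IsLocalHom (algebraMap V Osh) := by
    rw [IsScalarTower.algebraMap_eq V O Osh]
    infer_instance
  have h1 : (maximalIdeal (Osh ⊗[V] V')).comap (algebraMap Osh (Osh ⊗[V] V')) = maximalIdeal Osh :=
    Flat2G.EtUnibranch.comap_algebraMap_tensor (A := V) (S := Osh) (R' := V') _
  refine ((IsLocalRing.local_hom_TFAE (algebraMap (O ⊗[V] V') (Osh ⊗[V] V'))).out 0 4).2 ?_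
  apply IsLocalRing.eq_maximalIdeal
  have h2 : Algebra.IsIntegral O (O ⊗[V] V') := inferInstance
  refine Ideal.isMaximal_of_isIntegral_of_isMaximal_comap (R := O) _ ?_
  have h3 : ((maximalIdeal (Osh ⊗[V] V')).comap (algebraMap (O ⊗[V] V') (Osh ⊗[V] V'))).comap
      (algebraMap O (O ⊗[V] V')) = maximalIdeal O := by
    rw [Ideal.comap_comap]
    have h4 : (algebraMap (O ⊗[V] V') (Osh ⊗[V] V')).comp (algebraMap O (O ⊗[V] V')) =
        (algebraMap Osh (Osh ⊗[V] V')).comp (algebraMap O Osh) := by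
      ext x
      change Algebra.TensorProduct.map (IsScalarTower.toAlgHom V O Osh) (AlgHom.id V V') (x ⊗ₜ 1) = _
      rw [Algebra.TensorProduct.map_tmul]
      simp [Algebra.TensorProduct.algebraMap_apply]
    rw [h4, ← Ideal.comap_comap, h1]
    exact IsLocalRing.maximalIdeal_comap _
  rw [h3]
  infer_instance

end

section

variable {V V' : Type u} [CommRing V] [IsDomain V] [IsDiscreteValuationRing V] [CommRing V'] [IsDomain V']
  [IsDiscreteValuationRing V'] [Algebra V V'] (Osh : Type u) [CommRing Osh] [Algebra V Osh]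

/-- `Osh ⊗ V'` is henselian. -/
theorem henselian_tensor (h : TotRam V V') [HenselianLocalRing Osh] [IsLocalRing (Osh ⊗[V] V')] :
    HenselianLocalRing (Osh ⊗[V] V') := by
  have := h.isIntegral
  exact Etrest.IntHens.henselianLocalRing_of_isIntegral Osh (Osh ⊗[V] V')

variable [IsLocalRing Osh] [IsLocalHom (algebraMap V Osh)]

theorem exists_sub_mem (h : TotRam V V') [IsLocalRing (Osh ⊗[V] V')] (z : Osh ⊗[V] V') :
    ∃ a : Osh, z - algebraMap Osh (Osh ⊗[V] V') a ∈ maximalIdeal (Osh ⊗[V] V') := by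
  induction z with
  | zero => exact ⟨0, by simp⟩
  | tmul x y =>
    obtain ⟨a, ha⟩ := h.surj y
    refine ⟨a • x, ?_⟩
    have h1 : x ⊗ₜ[V] y - algebraMap Osh (Osh ⊗[V] V') (a • x) =
        (x ⊗ₜ[V] 1) * ((1 : Osh) ⊗ₜ[V] (y - algebraMap V V' a)) := by
      rw [Algebra.TensorProduct.algebraMap_apply, Algebra.TensorProduct.tmul_mul_tmul, mul_one, one_mul,
        TensorProduct.tmul_sub, Algebra.algebraMap_self, RingHom.id_apply, TensorProduct.smul_tmul,
        Algebra.algebraMap_eq_smul_one]
    rw [h1]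
    exact Ideal.mul_mem_left _ _ (includeRight_mem Osh h _ ha)
  | add x y hx hy =>
    obtain ⟨a, ha⟩ := hx
    obtain ⟨b, hb⟩ := hy
    refine ⟨a + b, ?_⟩
    rw [map_add, add_sub_add_comm]
    exact Ideal.add_mem _ ha hb

theorem isSepClosed_tensor (h : TotRam V V') [IsLocalRing (Osh ⊗[V] V')] [IsSepClosed (ResidueField Osh)] :
    IsSepClosed (ResidueField (Osh ⊗[V] V')) := by
  have := h.isIntegral
  have hloc : IsLocalHom (algebraMap Osh (Osh ⊗[V] V')) := isLocalHom_includeLeft Osh h
  have hb : Function.Bijective (ResidueField.map (algebraMap Osh (Osh ⊗[V] V'))) := by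
    refine ⟨RingHom.injective _, fun z => ?_⟩
    obtain ⟨z, rfl⟩ := residue_surjective z
    obtain ⟨a, ha⟩ := exists_sub_mem Osh h z
    refine ⟨residue Osh a, ?_⟩
    rw [ResidueField.map_residue, eq_comm, ← sub_eq_zero, ← map_sub, residue_eq_zero_iff]
    exact ha
  exact Hensel.Exist.isSepClosed_of_ringEquiv (RingEquiv.ofBijective _ hb).symm

end

section

variable {V V' : Type u} [CommRing V] [IsDomain V] [IsDiscreteValuationRing V] [CommRing V'] [IsDomain V']
  [IsDiscreteValuationRing V'] [Algebra V V']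
  (O Osh : Type u) [CommRing O] [Algebra V O] [CommRing Osh]
  [Algebra O Osh] [Algebra V Osh] [IsScalarTower V O Osh]
  [IsLocalRing O] [IsLocalRing Osh] [IsLocalHom (algebraMap O Osh)]
  [IsLocalHom (algebraMap V O)]

attribute [local instance] tAlg

/-- `Osh ⊗ V'` is a strict henselization of `O ⊗ V'`. -/
theorem isStrictHenselization_tensor (h : TotRam V V') [hs : Hensel.IsStrictHenselization O Osh]
    [IsLocalRing (O ⊗[V] V')] [IsLocalRing (Osh ⊗[V] V')]
    [IsLocalHom (algebraMap (O ⊗[V] V') (Osh ⊗[V] V'))] :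
    Hensel.IsStrictHenselization (O ⊗[V] V') (Osh ⊗[V] V') := by
  have hVOsh : IsLocalHom (algebraMap V Osh) := by
    rw [IsScalarTower.algebraMap_eq V O Osh]
    infer_instance
  have hh : HenselianLocalRing Osh := hs.henselian
  have hsc : IsSepClosed (ResidueField Osh) := hs.isSepClosure.sep_closed
  have h1 : HenselianLocalRing (Osh ⊗[V] V') := henselian_tensor Osh h
  have h2 : IsSepClosed (ResidueField (Osh ⊗[V] V')) := isSepClosed_tensor Osh h
  have hwe : Algebra.WeaklyEtale O Osh := Pi1C.StrictHensWE.weaklyEtale_of_isStrictHenselization O Osh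
  have hwe' := weaklyEtale_tensor V V' O Osh
  have hid : IsLocalHom (algebraMap (Osh ⊗[V] V') (Osh ⊗[V] V')) := ⟨fun _ h => h⟩
  have h3 : Hensel.IsStrictHenselization (Osh ⊗[V] V') (Osh ⊗[V] V') :=
    EtpbcB.StrictHensTransport.self (Osh ⊗[V] V')
  exact Flat2G.StrictHens.isStrictHenselization_of_weaklyEtale (O ⊗[V] V') (Osh ⊗[V] V') (Osh ⊗[V] V')

end

end Groth.Agent.Sga7.H752.BaseExtHens
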