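import Groth.Agent.S0402
import Groth.Agent.S1617
import Groth.Agent.FlatA.FibreDim
import Groth.Agent.VarietyB.DimTop
import Groth.Agent.Flat2G.ProperDim
import Groth.Prelude.Def_CInt

/-!
# Shrinking around a closed point of the special fibre

`exists_open`: `f : X ⟶ Spec V` locally of finite type, `x` a closed point of its fibre with
`dim O_{X_s, x} = n`: there is an open neighbourhood `U` of `x` with `dim U_K ≤ n`.
-/

set_option autoImplicit false
universe u

open CategoryTheory CategoryTheory.Limits AlgebraicGeometry IsLocalRing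

namespace Groth.Agent.Sga7.H752.GenDim

theorem fibreDimAt_comp {U X S : Scheme.{u}} (j : U ⟶ X) [IsOpenImmersion j] (f : X ⟶ S) (y : U) :
    FlatMor.fibreDimAt (j ≫ f) y = FlatMor.fibreDimAt f (j y) := by
  rw [FlatA.FibreDim.fibreDimAt_eq, FlatA.FibreDim.fibreDimAt_eq]
  exact (FlatA.FibreDim.localDim_fibre_eq j.isOpenEmbedding (i := (id : S → S))
    Function.injective_id (f := (f : X → S)) (g := ((j ≫ f : U ⟶ S) : U → S)) (fun _ => rfl) y).symm

theorem fibreDimAt_eq_of_isClosed {X S : Scheme.{u}} (f : X ⟶ S) [LocallyOfFiniteType f] (x : X)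
    (hx : IsClosed ({f.asFiber x} : Set (f.fiber (f x)))) :
    FlatMor.fibreDimAt f x = ringKrullDim ↑(CInt.fiberStalk f x) := by
  let _ : (f.fiber (f x)).Over (Spec (CommRingCat.of (S.residueField (f x)))) :=
    ⟨f.fiberToSpecResidueField (f x)⟩
  have : LocallyOfFiniteType ((f.fiber (f x)) ↘ Spec (CommRingCat.of (S.residueField (f x)))) :=
    inferInstanceAs (LocallyOfFiniteType (pullback.snd f (S.fromSpecResidueField (f x))))
  exact S1617.result (S.residueField (f x)) (f.fiber (f x)) (f.asFiber x) hx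

theorem topologicalKrullDim_fiber_le {X S : Scheme.{u}} (f : X ⟶ S) (n : ℕ)
    (h : ∀ x : X, FlatMor.fibreDimAt f x ≤ n) (s : S) : topologicalKrullDim (f.fiber s) ≤ n := by
  rw [VarietyB.DimTop.topologicalKrullDim_eq_iSup_localDim, iSup_le_iff]
  intro y
  obtain ⟨z, rfl⟩ := (f.fiberHomeo s).symm.surjective y
  obtain ⟨x, rfl⟩ := z
  exact h x

theorem exists_open {V K : Type u} [CommRing V] [IsLocalRing V] [Field K] [Algebra V K] {X : Scheme.{u}}
    (f : X ⟶ Spec (CommRingCat.of V)) [LocallyOfFiniteType f] (x : X)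
    (hx : IsClosed ({f.asFiber x} : Set (f.fiber (f x)))) (n : ℕ)
    (hdim : ringKrullDim ↑(CInt.fiberStalk f x) = n) :
    ∃ U : X.Opens, x ∈ U ∧ topologicalKrullDim ↥(pullback (U.ι ≫ f) (Spec.map (CommRingCat.ofHom (algebraMap V K)))) ≤ n := by
  let U : X.Opens := ⟨{y | FlatMor.fibreDimAt f y ≤ n}, S0402.result f n⟩
  refine ⟨U, ?_, ?_⟩
  · change FlatMor.fibreDimAt f x ≤ n
    rw [fibreDimAt_eq_of_isClosed f x hx, hdim]
  · rw [Flat2G.ProperDim.topologicalKrullDim_field_point (U.ι ≫ f) (K := CommRingCat.of K)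
      (Field.toIsField K) _ _ _
      (IsPullback.of_hasPullback (U.ι ≫ f) (Spec.map (CommRingCat.ofHom (algebraMap V K)))) (IsLocalRing.closedPoint K)]
    refine topologicalKrullDim_fiber_le _ n (fun y => ?_) _
    rw [fibreDimAt_comp]
    exact y.2

end Groth.Agent.Sga7.H752.GenDim
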