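import Groth.Agent.Sga2lef.H87.PullLocCoh
import Groth.Prelude.Def_EtDepth
import Groth.Prelude.Def_Hensel
import Groth.Agent.Hensel.Exist
import Groth.Agent.Pi1C.StrictHensTensor
import Groth.Agent.Pi1C.StrictHensWE

/-!
# Étale depth at the closed point and weakly étale local extensions
-/

set_option autoImplicit false
universe u

open CategoryTheory CategoryTheory.Limits AlgebraicGeometry IsLocalRing

namespace Groth.Agent.Sga7.H752.DepthWE

/-- Étale depth at the closed point along a weakly étale local extension with one point over the closed point. -/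
theorem depthGE_of_weaklyEtale {A C : Type u} [CommRing A] [IsLocalRing A] [IsNoetherianRing A] [CommRing C]
    [IsLocalRing C] (φ : A →+* C) (hwe : WeaklyEtale (Spec.map (CommRingCat.ofHom φ)))
    (hp : ∀ p : PrimeSpectrum C, PrimeSpectrum.comap φ p = closedPoint A ↔ p = closedPoint C)
    (M : Type) [AddCommGroup M] (n : ℕ)
    (h : EtDepth.DepthGE (FEt.puncturedSpec A).ι (EtCoh.const (Spec (CommRingCat.of A)) M) n) :
    EtDepth.DepthGE (FEt.puncturedSpec C).ι (EtCoh.const (Spec (CommRingCat.of C)) M) n := by
  let g : Spec (CommRingCat.of C) ⟶ Spec (CommRingCat.of A) := Spec.map (CommRingCat.ofHom φ)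
  have hg : g ⁻¹ᵁ (FEt.puncturedSpec A) = FEt.puncturedSpec C := by
    ext p
    exact not_congr (hp p)
  have key : ∀ W : (Spec (CommRingCat.of C)).Opens, g ⁻¹ᵁ (FEt.puncturedSpec A) = W →
      ∃ g' : (W : Scheme.{u}) ⟶ (FEt.puncturedSpec A : Scheme.{u}),
        IsPullback g' W.ι (FEt.puncturedSpec A).ι g := by
    rintro W rfl
    exact ⟨_, isPullback_morphismRestrict g (FEt.puncturedSpec A)⟩
  obtain ⟨g', hg'⟩ := key _ hg
  have hN : IsNoetherianRing (CommRingCat.of A : Type u) := inferInstanceAs (IsNoetherianRing A)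
  have hN' : IsNoetherian (Spec (CommRingCat.of A)) := inferInstance
  have hqc : QuasiCompact (FEt.puncturedSpec A).ι := inferInstance
  intro p hpn
  obtain ⟨e⟩ := Groth.Agent.Sga2lef.H87.PullLocCoh.nonempty_pull_locCoh_iso hg'
    (EtCoh.const (Spec (CommRingCat.of A)) M) p
  refine IsZero.of_iso ?_ ((EtDual.locCoh (FEt.puncturedSpec C).ι p).mapIso (EtCore.pullConst g M).symm)
  exact ((EtCoh.pull g).map_isZero (h p hpn)).of_iso e.symm

/-- Étale depth at the closed point passes to the strict henselization. -/
theorem depthGE_strictHens {A C : Type u} [CommRing A] [IsLocalRing A] [IsNoetherianRing A] [CommRing C]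
    [IsLocalRing C] [Algebra A C] [IsLocalHom (algebraMap A C)] [Hensel.IsStrictHenselization A C]
    (M : Type) [AddCommGroup M] (n : ℕ)
    (h : EtDepth.DepthGE (FEt.puncturedSpec A).ι (EtCoh.const (Spec (CommRingCat.of A)) M) n) :
    EtDepth.DepthGE (FEt.puncturedSpec C).ι (EtCoh.const (Spec (CommRingCat.of C)) M) n := by
  have h1 : Algebra.WeaklyEtale A C := Pi1C.StrictHensWE.weaklyEtale_of_isStrictHenselization A C
  refine depthGE_of_weaklyEtale (algebraMap A C) ?_ ?_ M n h
  · exact Pi1C.StrictHensTensor.weaklyEtale_specMap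
  · intro p
    constructor
    · intro hp
      have h2 : (maximalIdeal A).map (algebraMap A C) ≤ p.asIdeal := by
        rw [Ideal.map_le_iff_le_comap]
        exact (congrArg PrimeSpectrum.asIdeal hp).symm.le
      rw [Hensel.Exist.map_maximalIdeal_of_isStrictHenselization] at h2
      exact PrimeSpectrum.ext (((maximalIdeal.isMaximal C).eq_of_le p.2.ne_top h2).symm)
    · rintro rfl
      exact PrimeSpectrum.ext (IsLocalRing.maximalIdeal_comap (algebraMap A C))

end Groth.Agent.Sga7.H752.DepthWE
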