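import Groth.Agent.Sga7.H752.BaseExtHens
import Groth.Agent.Sga7.H752.DepthWE
import Mathlib.LinearAlgebra.TensorProduct.RightExactness

/-!
# Étale depth of `Osh ⊗[V] V'` for a complete intersection

`O = R / (r_1, …, r_c)` with `R` regular local, flat over the discrete valuation ring `V` (residue characteristic zero)
and with regular closed fibre, `V → V'` a finite totally ramified extension of discrete valuation rings, `Osh` a strict
henselization of `O`: the étale depth of the constant sheaf at the closed point of `Osh ⊗[V] V'` is at least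
`dim R - c`, granting the case of quotients of regular local rings (`ThmD`).
-/

set_option autoImplicit false
universe u

open CategoryTheory CategoryTheory.Limits AlgebraicGeometry IsLocalRing TensorProduct
open Groth.Agent.Sga7.H752.BaseExt Groth.Agent.Sga7.H752.BaseExtHens Groth.Agent.Sga7.H752.DepthWE

namespace Groth.Agent.Sga7.H752.DepthTensor

/-- Depth of complete intersections in regular local rings of residue characteristic zero. -/
def ThmD (m : ℕ) : Prop :=
  ∀ (R : Type u) [CommRing R] [IsRegularLocalRing R], CharZero (ResidueField R) →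
    ∀ (q : ℕ) (F : Fin q → R), (∀ i, F i ∈ maximalIdeal R) →
    ∀ [IsLocalRing (R ⧸ Ideal.span (Set.range F))] (d : ℕ), ringKrullDim R = d →
      EtDepth.DepthGE (FEt.puncturedSpec (R ⧸ Ideal.span (Set.range F))).ι
        (EtCoh.const (Spec (CommRingCat.of (R ⧸ Ideal.span (Set.range F)))) (ZMod m)) (d - q)

theorem depthGE_of_ringEquiv {A C : Type u} [CommRing A] [IsLocalRing A] [IsNoetherianRing A] [CommRing C]
    [IsLocalRing C] (e : A ≃+* C) (M : Type) [AddCommGroup M] (n : ℕ)
    (h : EtDepth.DepthGE (FEt.puncturedSpec A).ι (EtCoh.const (Spec (CommRingCat.of A)) M) n) :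
    EtDepth.DepthGE (FEt.puncturedSpec C).ι (EtCoh.const (Spec (CommRingCat.of C)) M) n := by
  have hiso : IsIso (Spec.map (CommRingCat.ofHom (e : A →+* C))) := by
    have : IsIso (CommRingCat.ofHom (e : A →+* C)) := e.toCommRingCatIso.isIso_hom
    infer_instance
  have hloc : IsLocalHom (e : A →+* C) := ⟨fun a ha => by
    have h := ha.map e.symm
    simpa using h⟩
  refine depthGE_of_weaklyEtale (e : A →+* C) inferInstance (fun p => ?_) M n h
  constructor
  · intro hp
    have h1 : maximalIdeal C ≤ p.asIdeal := by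
      intro c hc
      have h2 : e.symm c ∈ maximalIdeal A := by
        rw [mem_maximalIdeal, mem_nonunits_iff] at hc ⊢
        intro hu
        apply hc
        have h := hu.map e
        simpa using h
      have h3 : e.symm c ∈ (PrimeSpectrum.comap (e : A →+* C) p).asIdeal := by rw [hp]; exact h2
      have h4 : e (e.symm c) ∈ p.asIdeal := h3
      rwa [e.apply_symm_apply] at h4
    exact PrimeSpectrum.ext (((maximalIdeal.isMaximal C).eq_of_le p.2.ne_top h1).symm)
  · rintro rfl
    exact PrimeSpectrum.ext (IsLocalRing.maximalIdeal_comap (e : A →+* C))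

section

variable {V V' : Type u} [CommRing V] [IsDomain V] [IsDiscreteValuationRing V] [CommRing V'] [IsDomain V']
  [IsDiscreteValuationRing V'] [Algebra V V'] [CharZero (ResidueField V)]
  (O : Type u) [CommRing O] [IsLocalRing O] [Algebra V O] [IsLocalHom (algebraMap V O)]
  (R : Type u) [CommRing R] [hR : IsRegularLocalRing R] [Algebra V R] [IsLocalHom (algebraMap V R)]
  [Module.Flat V R]

/-- Depth of `O ⊗[V] V'`. -/
theorem depth_tensor_aux {m : ℕ} (hD : ThmD.{u} m) (hreg : IsRegularLocalRing (R ⧸ (maximalIdeal V).map (algebraMap V R)))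
    (φ : R →ₐ[V] O) (hφ : Function.Surjective φ) (rs : List R) (hker : RingHom.ker φ = Ideal.ofList rs)
    (N : ℕ) (hdim : ringKrullDim R = ((N + rs.length : ℕ) : WithBot ℕ∞)) (h : TotRam V V')
    [IsLocalRing (O ⊗[V] V')] :
    EtDepth.DepthGE (FEt.puncturedSpec (O ⊗[V] V')).ι (EtCoh.const (Spec (CommRingCat.of (O ⊗[V] V'))) (ZMod m)) N := by
  have hR' : IsRegularLocalRing (R ⊗[V] V') := isRegularLocalRing_tensor R h hreg
  have hdim' : ringKrullDim (R ⊗[V] V') = ((N + rs.length : ℕ) : WithBot ℕ∞) := by
    rw [ringKrullDim_tensor R h, hdim]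
  have hloc : IsLocalHom (algebraMap R (R ⊗[V] V')) := isLocalHom_includeLeft R h
  -- the quotient
  let F : Fin rs.length → R ⊗[V] V' := fun i => algebraMap R (R ⊗[V] V') (rs.get i)
  let φ' : R ⊗[V] V' →ₐ[V] O ⊗[V] V' := Algebra.TensorProduct.map φ (AlgHom.id V V')
  have hφ' : Function.Surjective φ' := TensorProduct.map_surjective hφ Function.surjective_id
  have hker' : RingHom.ker φ' = Ideal.span (Set.range F) := by
    have h1 : RingHom.ker φ' = (RingHom.ker φ).map (Algebra.TensorProduct.includeLeft : R →ₐ[V] R ⊗[V] V') :=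
      Algebra.TensorProduct.rTensor_ker φ hφ
    rw [h1, hker, Ideal.ofList, Ideal.map_span]
    congr 1
    ext z
    constructor
    · rintro ⟨r, hr, rfl⟩
      obtain ⟨i, hi⟩ := List.mem_iff_get.1 hr
      exact ⟨i, by rw [← hi]; rfl⟩
    · rintro ⟨i, rfl⟩
      exact ⟨rs.get i, List.get_mem rs i, rfl⟩
  let e : ((R ⊗[V] V') ⧸ Ideal.span (Set.range F)) ≃+* O ⊗[V] V' :=
    (Ideal.quotEquivOfEq hker'.symm).trans (RingHom.quotientKerEquivOfSurjective hφ')
  have hB : IsLocalRing ((R ⊗[V] V') ⧸ Ideal.span (Set.range F)) := e.symm.isLocalRing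
  have hF : ∀ i, F i ∈ maximalIdeal (R ⊗[V] V') := by
    intro i
    have h1 : rs.get i ∈ maximalIdeal R := by
      rw [mem_maximalIdeal, mem_nonunits_iff]
      intro hu
      have h2 : rs.get i ∈ RingHom.ker φ := by
        rw [hker]
        exact Ideal.subset_span (List.get_mem rs i)
      have h3 := hu.map φ
      rw [RingHom.mem_ker.1 h2] at h3
      exact not_isUnit_zero h3
    rw [mem_maximalIdeal, mem_nonunits_iff, isUnit_map_iff]
    exact h1
  have hchar : CharZero (ResidueField (R ⊗[V] V')) := by
    have h1 : IsLocalHom (algebraMap V (R ⊗[V] V')) := by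
      rw [IsScalarTower.algebraMap_eq V R (R ⊗[V] V')]
      infer_instance
    exact charZero_of_injective_ringHom (ResidueField.map (algebraMap V (R ⊗[V] V'))).injective
  have h5 := hD (R ⊗[V] V') hchar rs.length F hF (N + rs.length) hdim'
  rw [Nat.add_sub_cancel] at h5
  exact depthGE_of_ringEquiv e (ZMod m) N h5

attribute [local instance] tAlg

/-- Depth of `Osh ⊗[V] V'`. -/
theorem depth_tensor (Osh : Type u) [CommRing Osh] [IsLocalRing Osh] [Algebra O Osh] [Algebra V Osh]
    [IsScalarTower V O Osh] [IsLocalHom (algebraMap O Osh)] [hs : Hensel.IsStrictHenselization O Osh]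
    [Module.Flat V O] {m : ℕ} (hD : ThmD.{u} m)
    (hreg : IsRegularLocalRing (R ⧸ (maximalIdeal V).map (algebraMap V R)))
    (φ : R →ₐ[V] O) (hφ : Function.Surjective φ) (rs : List R) (hker : RingHom.ker φ = Ideal.ofList rs)
    (N : ℕ) (hdim : ringKrullDim R = ((N + rs.length : ℕ) : WithBot ℕ∞)) (h : TotRam V V')
    [IsLocalRing (Osh ⊗[V] V')] :
    EtDepth.DepthGE (FEt.puncturedSpec (Osh ⊗[V] V')).ι
      (EtCoh.const (Spec (CommRingCat.of (Osh ⊗[V] V'))) (ZMod m)) N := by
  have h1 : IsLocalRing (O ⊗[V] V') := isLocalRing_tensor O h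
  have h2 := isLocalHom_tensor V V' O Osh h
  have h3 := isStrictHenselization_tensor O Osh h
  have h4 := h.fin
  have hO : IsNoetherianRing O := isNoetherianRing_of_surjective R O φ.toRingHom hφ
  have hN : IsNoetherianRing (O ⊗[V] V') := IsNoetherianRing.of_finite O (O ⊗[V] V')
  exact depthGE_strictHens (ZMod m) N (depth_tensor_aux O R hD hreg φ hφ rs hker N hdim h)

end

end Groth.Agent.Sga7.H752.DepthTensor
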