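import Groth.Agent.Sga2lef.H101.FTDepth
import Groth.Agent.Sga7.H752.DepthTensor
import Mathlib.Algebra.Algebra.Rat
import Mathlib.Algebra.Field.ULift

/-!
# Theorem D from the statement for algebras of finite type over `ℚ`
-/

set_option autoImplicit false
universe u

open CategoryTheory CategoryTheory.Limits AlgebraicGeometry IsLocalRing
open Groth.Agent.Sga2lef.H101.FTDepth

namespace Groth.Agent.Sga7.H752.ThmDOf

/-- A local ring with residue field of characteristic zero is a `ℚ`-algebra. -/
theorem exists_ratHom (R : Type u) [CommRing R] [IsLocalRing R] [h : CharZero (ResidueField R)] :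
    Nonempty (ℚ →+* R) := by
  have h1 : ∀ y : nonZeroDivisors ℤ, IsUnit ((algebraMap ℤ R) y) := by
    intro y
    by_contra hcon
    have h2 : residue R ((algebraMap ℤ R) y) = 0 := (residue_eq_zero_iff _).2 ((mem_maximalIdeal _).2 hcon)
    have h3 : ((y : ℤ) : ResidueField R) = 0 := by
      rw [← h2, eq_intCast, map_intCast]
    exact nonZeroDivisors.coe_ne_zero y (Int.cast_eq_zero.1 h3)
  exact ⟨IsLocalization.lift (M := nonZeroDivisors ℤ) (S := ℚ) (g := algebraMap ℤ R) h1⟩

theorem charZero_ulift : CharZero (ULift.{u} ℚ) := ⟨fun a b h => by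
  have h1 := congrArg ULift.down h
  rw [ULift.down_natCast, ULift.down_natCast] at h1
  exact_mod_cast h1⟩

theorem thmD {m : ℕ} (H : FT (ULift.{u} ℚ) m) : DepthTensor.ThmD.{u} m := by
  intro R _ _ hchar q F hF _ d hd
  obtain ⟨g⟩ := exists_ratHom R
  let _ : Algebra (ULift.{u} ℚ) R := (g.comp (ULift.ringEquiv : ULift.{u} ℚ ≃+* ℚ).toRingHom).toAlgebra
  have := charZero_ulift.{u}
  exact depthGE (ULift.{u} ℚ) H hd F (d - q) le_rfl

end Groth.Agent.Sga7.H752.ThmDOf
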