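import Groth.Agent.Flat2G.EtUnibranch
import Groth.Agent.CalgA.RegBasic
import Groth.Agent.FlatA.DimFin
import Groth.Agent.Ega4A.RegEtale
import Mathlib.RingTheory.DiscreteValuationRing.Basic
import Mathlib.RingTheory.RegularLocalRing.Defs
import Mathlib.RingTheory.Flat.Localization
import Mathlib.RingTheory.TensorProduct.Quotient

/-!
# Base change of local algebras along a totally ramified finite extension of discrete valuation rings

`V → V'` a finite extension of discrete valuation rings with trivial residue field extension, `A` a local ring,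
flat over `V` by a local homomorphism.  Then `A ⊗[V] V'` is local, and it is regular if `A/πA` is.
-/

set_option autoImplicit false
universe u

open IsLocalRing TensorProduct

namespace Groth.Agent.Sga7.H752.BaseExt

variable (V V' : Type u) [CommRing V] [IsDomain V] [IsDiscreteValuationRing V] [CommRing V'] [IsDomain V']
  [IsDiscreteValuationRing V'] [Algebra V V']

/-- `V → V'` is finite, injective and induces a surjection of residue fields. -/
structure TotRam : Prop where
  fin : Module.Finite V V'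
  inj : Function.Injective (algebraMap V V')
  surj : ∀ y : V', ∃ a : V, y - algebraMap V V' a ∈ maximalIdeal V'

variable {V V'}

omit [IsDomain V] [IsDiscreteValuationRing V] in
theorem TotRam.isIntegral (h : TotRam V V') : Algebra.IsIntegral V V' :=
  have := h.fin
  inferInstance

theorem TotRam.isLocalHom (h : TotRam V V') : IsLocalHom (algebraMap V V') := by
  have := h.isIntegral
  have : FaithfulSMul V V' := (faithfulSMul_iff_algebraMap_injective V V').2 h.inj
  exact inferInstance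

theorem TotRam.resPI (h : TotRam V V') : Flat2G.EtUnibranch.ResPI V V' := by
  intro M hM x
  obtain ⟨a, ha⟩ := h.surj x
  refine ⟨0, a, ?_⟩
  rw [eq_maximalIdeal hM, pow_zero, pow_one]
  exact ha

/-- A uniformizer of `V` maps to a unit times a positive power of a uniformizer of `V'`. -/
theorem TotRam.exists_pow_mem (h : TotRam V V') (ϖ : V') (hϖ : ϖ ∈ maximalIdeal V') :
    ∃ k : ℕ, ϖ ^ k ∈ (maximalIdeal V).map (algebraMap V V') := by
  have := h.isLocalHom
  obtain ⟨π, hπ⟩ := IsDiscreteValuationRing.exists_irreducible V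
  have hπ' : algebraMap V V' π ≠ 0 := fun h0 => hπ.ne_zero (h.inj (by rw [h0, map_zero]))
  obtain ⟨ϖ₀, hϖ₀⟩ := IsDiscreteValuationRing.exists_irreducible V'
  obtain ⟨n, u, hu⟩ := IsDiscreteValuationRing.eq_unit_mul_pow_irreducible hπ' hϖ₀
  refine ⟨n, ?_⟩
  rw [hϖ₀.maximalIdeal_eq, Ideal.mem_span_singleton] at hϖ
  obtain ⟨c, rfl⟩ := hϖ
  have h1 : (ϖ₀ * c) ^ n = algebraMap V V' π * (↑u⁻¹ * c ^ n) := by
    rw [hu, mul_pow]
    have : (u : V') * (↑u⁻¹ : V') = 1 := Units.mul_inv u
    linear_combination (- ϖ₀ ^ n * c ^ n) * this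
  rw [h1]
  refine Ideal.mul_mem_right _ _ (Ideal.mem_map_of_mem _ ?_)
  rw [hπ.maximalIdeal_eq]
  exact Ideal.mem_span_singleton_self π

variable (A : Type u) [CommRing A] [IsLocalRing A] [Algebra V A] [IsLocalHom (algebraMap V A)] [Module.Flat V A]

/-- `A ⊗[V] V'` is a local ring. -/
theorem isLocalRing_tensor (h : TotRam V V') : IsLocalRing (A ⊗[V] V') := by
  have := h.isIntegral
  exact Flat2G.EtUnibranch.isLocalRing_tensor (A := V) (S := A) (R' := V') h.resPI

omit [IsLocalHom (algebraMap V A)] [Module.Flat V A] in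
theorem isLocalHom_includeLeft (h : TotRam V V') [IsLocalRing (A ⊗[V] V')] :
    IsLocalHom (algebraMap A (A ⊗[V] V')) := by
  have := h.isIntegral
  have h1 : Algebra.IsIntegral A (A ⊗[V] V') := inferInstance
  have h2 : (maximalIdeal (A ⊗[V] V')).comap (algebraMap A (A ⊗[V] V')) = maximalIdeal A :=
    Flat2G.EtUnibranch.comap_algebraMap_tensor (A := V) (S := A) (R' := V') _
  exact ((IsLocalRing.local_hom_TFAE (algebraMap A (A ⊗[V] V'))).out 0 4).2 h2

omit [Module.Flat V A] in
theorem includeRight_mem (h : TotRam V V') [IsLocalRing (A ⊗[V] V')] (ϖ : V') (hϖ : ϖ ∈ maximalIdeal V') :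
    (1 : A) ⊗ₜ[V] ϖ ∈ maximalIdeal (A ⊗[V] V') := by
  have := h.isIntegral
  have h1 := Flat2G.EtUnibranch.comap_includeRight_tensor (A := V) (S := A) (R' := V') (maximalIdeal (A ⊗[V] V'))
  rw [← h1] at hϖ
  exact hϖ

omit [IsLocalRing A] [IsLocalHom (algebraMap V A)] [Module.Flat V A] in
/-- `(A ⊗[V] V') / (ϖ) ≃ A / m_V A`. -/
theorem exists_quotEquiv (h : TotRam V V') (ϖ : V') (hϖ : Irreducible ϖ) :
    Nonempty ((A ⊗[V] V') ⧸ Ideal.span {(1 : A) ⊗ₜ[V] ϖ} ≃+*
      A ⧸ (maximalIdeal V).map (algebraMap V A)) := by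
  have hloc := h.isLocalHom
  let I : Ideal V' := Ideal.span {ϖ}
  have hI : I = maximalIdeal V' := hϖ.maximalIdeal_eq.symm
  let f : V →ₐ[V] V' ⧸ I := Algebra.ofId V (V' ⧸ I)
  have hf : Function.Surjective f := by
    intro y
    obtain ⟨y, rfl⟩ := Ideal.Quotient.mk_surjective y
    obtain ⟨a, ha⟩ := h.surj y
    refine ⟨a, ?_⟩
    rw [← hI] at ha
    exact (Ideal.Quotient.eq.2 ha).symm
  have hker : RingHom.ker f = maximalIdeal V := by
    ext a
    rw [RingHom.mem_ker]
    change Ideal.Quotient.mk I (algebraMap V V' a) = 0 ↔ _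
    rw [Ideal.Quotient.eq_zero_iff_mem, hI, mem_maximalIdeal, mem_maximalIdeal, mem_nonunits_iff,
      mem_nonunits_iff, isUnit_map_iff]
  let e1 : (V ⧸ maximalIdeal V) ≃ₐ[V] V' ⧸ I :=
    (Ideal.quotientEquivAlgOfEq V hker.symm).trans (Ideal.quotientKerAlgEquivOfSurjective hf)
  let e2 : A ⊗[V] (V ⧸ maximalIdeal V) ≃ₐ[A] A ⊗[V] (V' ⧸ I) :=
    Algebra.TensorProduct.congr AlgEquiv.refl e1
  have hmap : I.map (Algebra.TensorProduct.includeRight : V' →ₐ[V] A ⊗[V] V') =
      Ideal.span {(1 : A) ⊗ₜ[V] ϖ} := by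
    rw [Ideal.map_span, Set.image_singleton]
    rfl
  exact ⟨(Ideal.quotEquivOfEq hmap.symm).trans
    (((Algebra.TensorProduct.tensorQuotientEquiv (R := V) A V' A I).symm.toRingEquiv).trans
      (e2.symm.toRingEquiv.trans
        (Algebra.TensorProduct.quotIdealMapEquivTensorQuot A (maximalIdeal V)).symm.toRingEquiv))⟩

/-- `1 ⊗ ϖ` is a nonzerodivisor. -/
theorem includeRight_mem_nonZeroDivisors (ϖ : V') (hϖ : ϖ ≠ 0) :
    (1 : A) ⊗ₜ[V] ϖ ∈ nonZeroDivisors (A ⊗[V] V') := by
  have hfl : Module.Flat V' (V' ⊗[V] A) := inferInstance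
  have h1 : algebraMap V' (V' ⊗[V] A) ϖ ∈ nonZeroDivisors (V' ⊗[V] A) := by
    have h2 : IsSMulRegular (V' ⊗[V] A) (algebraMap V' (V' ⊗[V] A) ϖ) :=
      IsSMulRegular.of_flat (fun a b hab => mul_left_cancel₀ hϖ hab)
    rw [mem_nonZeroDivisors_iff_right]
    intro z hz
    apply h2
    change algebraMap V' (V' ⊗[V] A) ϖ * z = algebraMap V' (V' ⊗[V] A) ϖ * 0
    rw [mul_zero, mul_comm]
    exact hz
  let e : (V' ⊗[V] A) ≃ₐ[V] A ⊗[V] V' := Algebra.TensorProduct.comm V V' A
  rw [mem_nonZeroDivisors_iff_right] at h1 ⊢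
  intro z hz
  have h3 := h1 (e.symm z) (by
    apply e.injective
    rw [map_mul, map_zero, AlgEquiv.apply_symm_apply, Algebra.TensorProduct.algebraMap_apply]
    exact hz)
  exact (map_eq_zero_iff e.symm e.symm.injective).1 h3

/-- `A ⊗[V] V'` is regular if `A / m_V A` is. -/
theorem isRegularLocalRing_tensor (h : TotRam V V') [IsNoetherianRing A]
    (hreg : IsRegularLocalRing (A ⧸ (maximalIdeal V).map (algebraMap V A))) :
    IsRegularLocalRing (A ⊗[V] V') := by
  have := isLocalRing_tensor A h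
  have := h.fin
  have hN : IsNoetherianRing (A ⊗[V] V') := IsNoetherianRing.of_finite A (A ⊗[V] V')
  obtain ⟨ϖ, hϖ⟩ := IsDiscreteValuationRing.exists_irreducible V'
  obtain ⟨e⟩ := exists_quotEquiv A h ϖ hϖ
  have h1 : IsRegularLocalRing ((A ⊗[V] V') ⧸ Ideal.span {(1 : A) ⊗ₜ[V] ϖ}) :=
    IsRegularLocalRing.of_ringEquiv e.symm
  refine CalgA.RegBasic.of_quotient ((1 : A) ⊗ₜ[V] ϖ) ?_
    (includeRight_mem_nonZeroDivisors A ϖ hϖ.ne_zero)
  exact includeRight_mem A h ϖ (by rw [hϖ.maximalIdeal_eq]; exact Ideal.mem_span_singleton_self ϖ)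

omit [IsLocalRing A] [IsLocalHom (algebraMap V A)] in
theorem algebraMap_injective (h : TotRam V V') : Function.Injective (algebraMap A (A ⊗[V] V')) :=
  Algebra.TensorProduct.includeLeft_injective (S := A) h.inj

omit [IsLocalRing A] [IsLocalHom (algebraMap V A)] in
theorem ringKrullDim_tensor (h : TotRam V V') : ringKrullDim (A ⊗[V] V') = ringKrullDim A := by
  have := h.isIntegral
  exact FlatA.DimFin.ringKrullDim_eq_of_isIntegral_of_injective A (A ⊗[V] V') (algebraMap_injective A h)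

end Groth.Agent.Sga7.H752.BaseExt
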